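import Groth.Agent.Alg6.AssDepth
import Groth.Prelude.Def_CAlg
import Mathlib.RingTheory.Regular.RegularSequence
import Mathlib.RingTheory.Flat.Basic
import Mathlib.RingTheory.TensorProduct.Basic
import Mathlib.RingTheory.Regular.Flat

/-!
Depth of the kernel of a map between modules without support at the closed point, or flat modules.
-/

set_option autoImplicit false

universe u

open IsLocalRing TensorProduct

namespace Groth.Agent.Div86.PushDepth

variable {R : Type u} [CommRing R] [IsLocalRing R] {M N₁ N₂ : Type u} [AddCommGroup M] [Module R M]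
  [AddCommGroup N₁] [Module R N₁] [AddCommGroup N₂] [Module R N₂]

/-- The identity is a combination of endomorphisms with coefficients in the maximal ideal. -/
def Away (N : Type u) [AddCommGroup N] [Module R N] : Prop :=
  LinearMap.id ∈ (maximalIdeal R) • (⊤ : Submodule R (Module.End R N))

theorem Away.eq_zero {N : Type u} [AddCommGroup N] [Module R N] (hN : Away (R := R) N) {n : N}
    (h : ∀ r ∈ maximalIdeal R, r • n = 0) : n = 0 := by
  suffices ∀ φ ∈ (maximalIdeal R) • (⊤ : Submodule R (Module.End R N)), φ n = 0 from this _ hN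
  intro φ hφ
  refine Submodule.smul_induction_on hφ (fun r hr a _ => ?_) (fun a b ha hb => ?_)
  · rw [LinearMap.smul_apply, ← map_smul, h r hr, map_zero]
  · rw [LinearMap.add_apply, ha, hb, add_zero]

theorem two_le_depth [IsNoetherianRing R] [Module.Finite R M] (ι : M →ₗ[R] N₁) (hι : Function.Injective ι)
    (δ : N₁ →ₗ[R] N₂) (hex : Function.Exact ι δ) (h₁ : Away (R := R) N₁) (h₂ : Away (R := R) N₂) :
    (2 : ℕ∞) ≤ LocCoh.depth R M := by
  have h0 : maximalIdeal R ∉ associatedPrimes R M := by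
    intro hass
    obtain ⟨hp, z, hz⟩ := Alg6.mem_ass_iff.1 hass
    have hz0 : z = 0 := hι ((h₁.eq_zero fun r hr => by rw [← map_smul, (hz r).1 hr, map_zero]).trans
      (map_zero ι).symm)
    exact hp.ne_top (Ideal.eq_top_iff_one _ |>.2 ((hz 1).2 (by rw [one_smul, hz0])))
  obtain ⟨t, ht, htreg⟩ : ∃ t ∈ maximalIdeal R, IsSMulRegular M t := by
    by_contra hne
    push Not at hne
    have hsub : (maximalIdeal R : Set R) ⊆ ⋃ p ∈ associatedPrimes R M, (p : Set R) := fun r hr => by
      rw [biUnion_associatedPrimes_eq_compl_regular]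
      exact hne r hr
    obtain ⟨p, hp, hle⟩ := (Ideal.subset_union_prime_finite (associatedPrimes.finite R M) ⊥ ⊥
      fun p hp _ _ => IsAssociatedPrime.isPrime hp).1 hsub
    exact h0 ((le_antisymm (le_maximalIdeal (IsAssociatedPrime.isPrime hp).ne_top) hle) ▸ hp)
  refine (Alg6.two_le_depth_iff ht htreg).2 fun hass => ?_
  obtain ⟨hp, z, hz⟩ := Alg6.mem_ass_iff.1 hass
  obtain ⟨b, rfl⟩ := Submodule.mkQ_surjective _ z
  have hb : ∀ r ∈ maximalIdeal R, ∃ c, t • c = r • b := fun r hr => by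
    have := (hz r).1 hr
    rw [← map_smul, Submodule.mkQ_apply, Submodule.Quotient.mk_eq_zero,
      Submodule.mem_smul_pointwise_iff_exists] at this
    obtain ⟨c, -, hc⟩ := this
    exact ⟨c, hc⟩
  choose! c hc using hb
  obtain ⟨d, hd, hd'⟩ : ∃ d : N₁, t • d = ι b ∧ ∀ r ∈ maximalIdeal R, r • d = ι (c r) := by
    suffices ∀ φ ∈ (maximalIdeal R) • (⊤ : Submodule R (Module.End R N₁)),
        ∃ d : N₁, t • d = φ (ι b) ∧ ∀ r ∈ maximalIdeal R, r • d = φ (ι (c r)) from this _ h₁
    intro φ hφ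
    refine Submodule.smul_induction_on hφ (fun g hg a _ => ?_) (fun a a' ha ha' => ?_)
    ·
      refine ⟨a (ι (c g)), ?_, fun r hr => ?_⟩
      · rw [LinearMap.smul_apply, ← map_smul a t, ← map_smul ι, hc g hg, map_smul, map_smul]
      · have hsym : r • c g = g • c r := htreg (show t • (r • c g) = t • (g • c r) by
          rw [smul_comm t r, hc g hg, smul_comm t g, hc r hr, smul_comm r g])
        rw [LinearMap.smul_apply, ← map_smul a r, ← map_smul ι, hsym, map_smul, map_smul]
    ·
      obtain ⟨d, h1, h2⟩ := ha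
      obtain ⟨d', h1', h2'⟩ := ha'
      exact ⟨d + d', by rw [smul_add, h1, h1', LinearMap.add_apply], fun r hr => by
        rw [smul_add, h2 r hr, h2' r hr, LinearMap.add_apply]⟩
  have hδ : δ d = 0 := h₂.eq_zero fun r hr => by
    rw [← map_smul, hd' r hr, hex.apply_apply_eq_zero]
  obtain ⟨e, rfl⟩ := (hex d).1 hδ
  refine hp.ne_top (Ideal.eq_top_iff_one _ |>.2 ((hz 1).2 ?_))
  rw [one_smul, Submodule.mkQ_apply, Submodule.Quotient.mk_eq_zero,
    Submodule.mem_smul_pointwise_iff_exists]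
  exact ⟨e, trivial, hι (by rw [map_smul]; exact hd)⟩

theorem min_two_depth_le (ι : M →ₗ[R] N₁) (hι : Function.Injective ι) (δ : N₁ →ₗ[R] N₂)
    (hex : Function.Exact ι δ) [Module.Flat R N₁] [Module.Flat R N₂] :
    min (2 : ℕ∞) (LocCoh.depth R R) ≤ LocCoh.depth R M := by
  have hreg : ∀ rs : List R, RingTheory.Sequence.IsWeaklyRegular R rs → rs.length ≤ 2 →
      RingTheory.Sequence.IsWeaklyRegular M rs := by
    intro rs hrs hlen
    have hN₁ : RingTheory.Sequence.IsWeaklyRegular N₁ rs :=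
      ((TensorProduct.rid R N₁).isWeaklyRegular_congr rs).1 (hrs.isWeaklyRegular_lTensor (M₂ := N₁))
    have hN₂ : RingTheory.Sequence.IsWeaklyRegular N₂ rs :=
      ((TensorProduct.rid R N₂).isWeaklyRegular_congr rs).1 (hrs.isWeaklyRegular_lTensor (M₂ := N₂))
    match rs, hlen with
    | [], _ => exact .nil R M
    | [x], _ =>
      rw [RingTheory.Sequence.isWeaklyRegular_cons_iff] at hN₁ ⊢
      exact ⟨IsSMulRegular.of_injective ι hι hN₁.1, .nil R _⟩
    | [x, y], _ =>
      rw [RingTheory.Sequence.isWeaklyRegular_cons_iff, RingTheory.Sequence.isWeaklyRegular_cons_iff]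
        at hN₁ hN₂ ⊢
      refine ⟨IsSMulRegular.of_injective ι hι hN₁.1, ?_, .nil R _⟩
      refine IsSMulRegular.of_injective (QuotSMulTop.map x ι) ?_ hN₁.2.1
      rw [← LinearMap.ker_eq_bot, Submodule.eq_bot_iff]
      intro z hz
      obtain ⟨z, rfl⟩ := Submodule.mkQ_surjective _ z
      rw [LinearMap.mem_ker, Submodule.mkQ_apply, QuotSMulTop.map_apply_mk, Submodule.Quotient.mk_eq_zero,
        Submodule.mem_smul_pointwise_iff_exists] at hz
      obtain ⟨n, -, hn⟩ := hz
      have hδn : δ n = 0 := hN₂.1 (show x • δ n = x • (0 : N₂) by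
        rw [smul_zero, ← map_smul, hn, hex.apply_apply_eq_zero])
      obtain ⟨m, rfl⟩ := (hex n).1 hδn
      rw [Submodule.mkQ_apply, Submodule.Quotient.mk_eq_zero, Submodule.mem_smul_pointwise_iff_exists]
      exact ⟨m, trivial, hι (by rw [map_smul]; exact hn)⟩
    | _ :: _ :: _ :: _, h => exact absurd h (by simp)
  rw [LocCoh.depth, LocCoh.depth, LocCoh.idealDepth, LocCoh.idealDepth]
  by_cases hM : maximalIdeal R • (⊤ : Submodule R M) = ⊤
  · rw [if_pos hM]; exact le_top
  rw [if_neg hM]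
  have hR : maximalIdeal R • (⊤ : Submodule R R) ≠ ⊤ := by
    rw [smul_eq_mul, Ideal.mul_top]
    exact (maximalIdeal.isMaximal R).ne_top
  rw [if_neg hR]
  by_contra hlt
  rw [not_le] at hlt
  obtain ⟨h2, h1⟩ := lt_min_iff.1 hlt
  obtain ⟨rs, h1⟩ := lt_iSup_iff.1 h1
  obtain ⟨⟨hrs, hm⟩, h1⟩ := lt_iSup_iff.1 h1
  have hlen : min 2 rs.length ≤ 2 := min_le_left _ _
  have hs : RingTheory.Sequence.IsWeaklyRegular R (rs.take (min 2 rs.length)) := by
    rw [RingTheory.Sequence.isWeaklyRegular_iff] at hrs ⊢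
    intro i hi
    simp only [List.length_take] at hi
    have := hrs i (by omega)
    rw [List.getElem_take, List.take_take, min_eq_left (by omega)]
    exact this
  have h3 : ((min 2 rs.length : ℕ) : ℕ∞) ≤ ⨆ (l : List R) (_ : RingTheory.Sequence.IsWeaklyRegular M l ∧
      ∀ r ∈ l, r ∈ maximalIdeal R), (l.length : ℕ∞) := by
    refine le_iSup₂_of_le (rs.take (min 2 rs.length))
      ⟨hreg _ hs (by simp), fun r hr => hm r (List.mem_of_mem_take hr)⟩ ?_
    simp
  rw [show ((min 2 rs.length : ℕ) : ℕ∞) = min ((2 : ℕ) : ℕ∞) (rs.length : ℕ∞) from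
    Monotone.map_min (f := ((↑) : ℕ → ℕ∞)) (fun a b h => Nat.cast_le.2 h)] at h3
  exact absurd h3 (not_le.2 (lt_min h2 h1))

end Groth.Agent.Div86.PushDepth
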