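import Groth.Agent.Div86.PushDepth.Sec
import Groth.Prelude.Def_FlatMod2
import Mathlib.RingTheory.Localization.BaseChange
import Mathlib.RingTheory.Flat.Localization

/-!
Depth of stalks of direct images.
-/

set_option autoImplicit false
set_option linter.style.haveILetI false
set_option maxHeartbeats 800000
set_option synthInstance.maxHeartbeats 100000

universe u

open CategoryTheory AlgebraicGeometry TopologicalSpace Opposite TensorProduct IsLocalRing

namespace Groth.Agent.Div86.PushDepth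

variable {A : Type u} [CommRing A] {N : Type u} [AddCommGroup N] [Module A N]

theorem smul_id_pi {J : Type u} [Finite J] {Ni : J → Type u} [∀ j, AddCommGroup (Ni j)]
    [∀ j, Module A (Ni j)] (p : Ideal A) [p.IsPrime]
    (h : ∀ j, ∃ u ∉ p, u • (LinearMap.id : Module.End A (Ni j)) ∈ p • (⊤ : Submodule A (Module.End A (Ni j)))) :
    ∃ u ∉ p, u • (LinearMap.id : Module.End A (∀ j, Ni j)) ∈
      p • (⊤ : Submodule A (Module.End A (∀ j, Ni j))) := by
  classical
  have := Fintype.ofFinite J
  choose u hu humem using h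
  refine ⟨∏ j, u j, fun hm => ?_, ?_⟩
  · obtain ⟨j, -, hj⟩ := (Ideal.IsPrime.prod_mem_iff (hp := ‹p.IsPrime›)).1 hm
    exact hu j hj
  let Φ : ∀ j, Module.End A (Ni j) →ₗ[A] Module.End A (∀ j, Ni j) := fun j =>
    { toFun := fun φ => LinearMap.single A Ni j ∘ₗ φ ∘ₗ LinearMap.proj j
      map_add' := fun a b => by rw [LinearMap.add_comp, LinearMap.comp_add]
      map_smul' := fun r a => by rw [LinearMap.smul_comp, LinearMap.comp_smul]; rfl }
  have hid : (LinearMap.id : Module.End A (∀ j, Ni j)) = ∑ j, Φ j LinearMap.id := by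
    refine LinearMap.ext fun x => ?_
    simp [Φ, Finset.univ_sum_single]
  rw [hid, Finset.smul_sum]
  refine Submodule.sum_mem _ fun j _ => ?_
  rw [← map_smul]
  obtain ⟨c, hc⟩ := Finset.dvd_prod_of_mem u (Finset.mem_univ j)
  have h1 : (∏ j, u j) • (LinearMap.id : Module.End A (Ni j)) ∈ p • (⊤ : Submodule A (Module.End A (Ni j))) := by
    rw [hc, mul_comm, mul_smul]
    exact Submodule.smul_mem _ c (humem j)
  have h2 := Submodule.mem_map_of_mem (f := Φ j) h1
  rw [Submodule.map_smul''] at h2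
  exact Submodule.smul_mono le_rfl le_top h2

theorem away_baseChange (R : Type u) [CommRing R] [IsLocalRing R] [Algebra A R] (p : Ideal A) [p.IsPrime]
    [IsLocalization.AtPrime R p]
    (h : ∃ u ∉ p, u • (LinearMap.id : Module.End A N) ∈ p • (⊤ : Submodule A (Module.End A N))) :
    Away (R := R) (R ⊗[A] N) := by
  obtain ⟨u, hu, humem⟩ := h
  let β := (Module.End.baseChangeHom A R N).toLinearMap
  have key : ∀ φ ∈ p • (⊤ : Submodule A (Module.End A N)),
      β φ ∈ maximalIdeal R • (⊤ : Submodule R (Module.End R (R ⊗[A] N))) := by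
    intro φ hφ
    refine Submodule.smul_induction_on hφ (fun r hr a _ => ?_) (fun a b ha hb => ?_)
    · rw [map_smul, ← IsScalarTower.algebraMap_smul R r (β a)]
      exact Submodule.smul_mem_smul
        ((IsLocalization.AtPrime.to_map_mem_maximal_iff R p r).2 hr) Submodule.mem_top
    · rw [map_add]; exact add_mem ha hb
  have h1 := key _ humem
  rw [map_smul, ← IsScalarTower.algebraMap_smul R u (β LinearMap.id)] at h1
  have h2 : β LinearMap.id = LinearMap.id := map_one (Module.End.baseChangeHom A R N)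
  rw [h2] at h1
  obtain ⟨v, hv⟩ := (IsLocalization.map_units R (⟨u, hu⟩ : p.primeCompl)).exists_left_inv
  have h3 := Submodule.smul_mem _ v h1
  rwa [← mul_smul, hv, one_smul] at h3

variable {X S : Scheme.{u}} (f : X ⟶ S) [QuasiCompact f] [QuasiSeparated f] {F : X.Modules}

/-- The stalk of a direct image sits in a localized equalizer sequence. -/
theorem exists_stalk_sequence (hF : Coh.IsQCoh F) (s : S) :
    ∃ (N₁ N₂ : Type u) (_ : AddCommGroup N₁) (_ : Module (S.presheaf.stalk s) N₁)
      (_ : AddCommGroup N₂) (_ : Module (S.presheaf.stalk s) N₂)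
      (ι : ((Scheme.Modules.pushforward f).obj F).presheaf.stalk s →ₗ[S.presheaf.stalk s] N₁)
      (δ : N₁ →ₗ[S.presheaf.stalk s] N₂), Function.Injective ι ∧ Function.Exact ι δ ∧
      ((∀ x : X, f x ≠ s) → Away (R := S.presheaf.stalk s) N₁ ∧ Away (R := S.presheaf.stalk s) N₂) ∧
      (FlatMod.IsFlatOver f F → Module.Flat (S.presheaf.stalk s) N₁ ∧ Module.Flat (S.presheaf.stalk s) N₂) := by
  obtain ⟨V, hV, hs, -⟩ := exists_isAffineOpen_mem_and_subset (x := s) (U := ⊤) trivial
  obtain ⟨J, K, _, _, UJ, UK, hJ, hK, haJ, haK, ι₀, δ₀, hι₀, hex₀⟩ := exists_sequence (F := F) hV (f := f)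
  set G := (Scheme.Modules.pushforward f).obj F with hG
  have hGq : Coh.IsQCoh G := QCoh.isQCoh_pushforward f hF
  letI := QCoh.stalkAlg (X := S) hs
  haveI := QCoh.isLocalization_stalk' hV hs
  letI := QCoh.stalkModule G hs
  haveI := QCoh.isScalarTower_stalk G hs
  haveI := QCoh.isLocalizedModule_germLin hGq hV hs
  let R := S.presheaf.stalk s
  haveI : Module.Flat Γ(S, V) R := IsLocalization.flat R (hV.primeIdealOf ⟨s, hs⟩).asIdeal.primeCompl
  let e : Γ(G, V) ≃ₗ[Γ(S, V)] Sec f F V (le_refl (f ⁻¹ᵁ V)) :=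
    { toFun := fun m => m
      invFun := fun m => m
      left_inv := fun _ => rfl
      right_inv := fun _ => rfl
      map_add' := fun _ _ => rfl
      map_smul' := fun r m => by
        show _ = f.appLE V (f ⁻¹ᵁ V) (le_refl _) r • (show Γ(F, f ⁻¹ᵁ V) from m)
        rw [← Scheme.Hom.app_eq_appLE]
        exact QCoh.pushforward_smul f V r m }
  let E : G.presheaf.stalk s ≃ₗ[R] R ⊗[Γ(S, V)] Sec f F V (le_refl (f ⁻¹ᵁ V)) :=
    (IsLocalizedModule.isBaseChange (hV.primeIdealOf ⟨s, hs⟩).asIdeal.primeCompl R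
      (QCoh.germLin G hs)).equiv.symm.trans (LinearEquiv.baseChange Γ(S, V) R _ _ e)
  refine ⟨R ⊗[Γ(S, V)] (∀ j, Sec f F V (hJ j)), R ⊗[Γ(S, V)] (∀ k, Sec f F V (hK k)), inferInstance,
    inferInstance, inferInstance, inferInstance, ι₀.baseChange R ∘ₗ E.toLinearMap, δ₀.baseChange R,
    ?_, ?_, fun hne => ⟨?_, ?_⟩, fun hfl => ⟨?_, ?_⟩⟩
  · exact (Module.Flat.lTensor_preserves_injective_linearMap (M := R) ι₀ hι₀).comp E.injective
  · have h1 : Function.Exact (ι₀.lTensor R) (δ₀.lTensor R) := Module.Flat.lTensor_exact R hex₀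
    intro y
    refine (h1 y).trans ⟨?_, ?_⟩
    · rintro ⟨z, hz⟩
      exact ⟨E.symm z, (congrArg (ι₀.lTensor R) (E.apply_symm_apply z)).trans hz⟩
    · rintro ⟨z, hz⟩; exact ⟨E z, hz⟩
  · exact away_baseChange R (hV.primeIdealOf ⟨s, hs⟩).asIdeal
      (smul_id_pi _ fun j => exists_smul_id_mem (hJ j) (haJ j) hV hs fun x _ => hne x)
  · exact away_baseChange R (hV.primeIdealOf ⟨s, hs⟩).asIdeal
      (smul_id_pi _ fun k => exists_smul_id_mem (hK k) (haK k) hV hs fun x _ => hne x)
  · haveI := fun j => flat_sec (hJ j) hF hfl (haJ j) hV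
    have := Fintype.ofFinite J
    classical
    haveI : Module.Flat Γ(S, V) (∀ j, Sec f F V (hJ j)) :=
      Module.Flat.of_linearEquiv (DirectSum.linearEquivFunOnFintype Γ(S, V) J _).symm
    infer_instance
  · haveI := fun k => flat_sec (hK k) hF hfl (haK k) hV
    have := Fintype.ofFinite K
    classical
    haveI : Module.Flat Γ(S, V) (∀ k, Sec f F V (hK k)) :=
      Module.Flat.of_linearEquiv (DirectSum.linearEquivFunOnFintype Γ(S, V) K _).symm
    infer_instance

end Groth.Agent.Div86.PushDepth
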