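import Groth.Agent.QCoh.Qcqs
import Groth.Agent.QCoh.FlatOver
import Groth.Agent.Div86.PushDepth.Alg

/-!
The equalizer sequence of a finite affine covering of the preimage of an affine open.
-/

set_option autoImplicit false
set_option linter.style.haveILetI false

universe u

open CategoryTheory AlgebraicGeometry TopologicalSpace Opposite TensorProduct

namespace Groth.Agent.Div86.PushDepth

variable {X S : Scheme.{u}} (f : X ⟶ S) (F : X.Modules) (V : S.Opens) {U U' : X.Opens}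

/-- Sections over an open of the preimage of `V`, as a module over the sections on `V`. -/
def Sec (_hle : U ≤ f ⁻¹ᵁ V) : Type u := Γ(F, U)

variable {f F V} (hle : U ≤ f ⁻¹ᵁ V)

noncomputable instance : AddCommGroup (Sec f F V hle) := inferInstanceAs (AddCommGroup Γ(F, U))

noncomputable instance : Module Γ(S, V) (Sec f F V hle) :=
  Module.compHom Γ(F, U) (f.appLE V U hle).hom

theorem smul_def (r : Γ(S, V)) (m : Sec f F V hle) :
    r • m = (show Γ(F, U) from (f.appLE V U hle r) • (show Γ(F, U) from m)) := rfl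

/-- Restriction. -/
noncomputable def secRes {hle' : U' ≤ f ⁻¹ᵁ V} (h : U' ≤ U) : Sec f F V hle →ₗ[Γ(S, V)] Sec f F V hle' where
  toFun m := (F.presheaf.map (homOfLE h).op m : Γ(F, U'))
  map_add' a b := map_add (F.presheaf.map (homOfLE h).op).hom a b
  map_smul' r m := by
    show F.presheaf.map (homOfLE h).op (f.appLE V U hle r • (show Γ(F, U) from m)) = _
    rw [QCoh.map_smul']
    show _ = f.appLE V U' hle' r • F.presheaf.map (homOfLE h).op m
    rw [← CommRingCat.comp_apply, Scheme.Hom.appLE_map]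

/-- Multiplication by a function on the open. -/
noncomputable def secMul (a : Γ(X, U)) : Module.End Γ(S, V) (Sec f F V hle) where
  toFun m := (a • (show Γ(F, U) from m) : Γ(F, U))
  map_add' x y := smul_add a (show Γ(F, U) from x) (show Γ(F, U) from y)
  map_smul' r m := smul_comm a (f.appLE V U hle r) (show Γ(F, U) from m)

theorem flat_sec (hF : Coh.IsQCoh F) (hfl : FlatMod.IsFlatOver f F) (hU : IsAffineOpen U)
    (hV : IsAffineOpen V) : Module.Flat Γ(S, V) (Sec f F V hle) :=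
  (QCoh.flat_appLE_iff f hF hU hV hle).2 fun x _ => hfl x

/-- Away from the point, a function not vanishing at the point kills the affine piece modulo its prime. -/
theorem exists_smul_id_mem (hU : IsAffineOpen U) (hV : IsAffineOpen V) {s : S} (hs : s ∈ V)
    (hne : ∀ x ∈ U, f x ≠ s) :
    ∃ u ∉ (hV.primeIdealOf ⟨s, hs⟩).asIdeal, u • (LinearMap.id : Module.End Γ(S, V) (Sec f F V hle)) ∈
      (hV.primeIdealOf ⟨s, hs⟩).asIdeal • (⊤ : Submodule Γ(S, V) (Module.End Γ(S, V) (Sec f F V hle))) := by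
  set p := (hV.primeIdealOf ⟨s, hs⟩).asIdeal with hp
  letI := (f.appLE V U hle).hom.toAlgebra
  obtain ⟨u, hup, humem⟩ : ∃ u ∉ p, algebraMap Γ(S, V) Γ(X, U) u ∈ p.map (algebraMap Γ(S, V) Γ(X, U)) := by
    by_contra hno
    push Not at hno
    have hdis : Disjoint (p.map (algebraMap Γ(S, V) Γ(X, U)) : Set Γ(X, U))
        (Algebra.algebraMapSubmonoid Γ(X, U) p.primeCompl : Set Γ(X, U)) := by
      rw [Set.disjoint_right]
      rintro _ ⟨u, hu, rfl⟩ h
      exact hno u hu h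
    obtain ⟨Q, hQ, hQle, hQdis⟩ := Ideal.exists_le_prime_disjoint _ _ hdis
    have hQp : Q.comap (algebraMap Γ(S, V) Γ(X, U)) = p := by
      refine le_antisymm (fun r hr => ?_) (Ideal.map_le_iff_le_comap.1 hQle)
      by_contra hrp
      exact Set.disjoint_right.1 hQdis ⟨r, hrp, rfl⟩ hr
    let q : PrimeSpectrum Γ(X, U) := ⟨Q, hQ⟩
    have hy : hU.fromSpec q ∈ U := by
      rw [← SetLike.mem_coe, ← hU.range_fromSpec]; exact ⟨q, rfl⟩
    have hyQ : hU.primeIdealOf ⟨_, hy⟩ = q :=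
      hU.fromSpec.isOpenEmbedding.injective (hU.fromSpec_primeIdealOf ⟨_, hy⟩)
    refine hne _ hy ?_
    have h1 : hV.primeIdealOf ⟨f (hU.fromSpec q), hle hy⟩ = hV.primeIdealOf ⟨s, hs⟩ := by
      refine PrimeSpectrum.ext ?_
      rw [← congrArg PrimeSpectrum.asIdeal
        (IsAffineOpen.comap_primeIdealOf_appLE V hV U hU hle hy), hyQ]
      exact hQp
    exact (hV.fromSpec_primeIdealOf ⟨f (hU.fromSpec q), hle hy⟩).symm.trans
      ((congrArg hV.fromSpec h1).trans (hV.fromSpec_primeIdealOf ⟨s, hs⟩))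
  refine ⟨u, hup, ?_⟩
  have : ∀ b ∈ p.map (algebraMap Γ(S, V) Γ(X, U)),
      secMul (F := F) hle b ∈ p • (⊤ : Submodule Γ(S, V) (Module.End Γ(S, V) (Sec f F V hle))) := by
    intro b hb
    rw [Ideal.map, Ideal.span] at hb
    suffices ∀ a : Γ(X, U), secMul (F := F) hle (a * b) ∈ p • ⊤ by simpa using this 1
    induction hb using Submodule.span_induction with
    | mem b hb =>
      obtain ⟨r, hr, rfl⟩ := hb
      intro a
      have : secMul (F := F) hle (a * algebraMap Γ(S, V) Γ(X, U) r) = r • secMul (F := F) hle a :=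
        LinearMap.ext fun m => by
          show (a * f.appLE V U hle r) • (show Γ(F, U) from m) = f.appLE V U hle r • (a • (show Γ(F, U) from m))
          rw [mul_comm, mul_smul]
      rw [this]
      exact Submodule.smul_mem_smul hr Submodule.mem_top
    | zero =>
      intro a
      rw [mul_zero, show secMul (F := F) hle 0 = 0 from
        LinearMap.ext fun m => zero_smul Γ(X, U) (show Γ(F, U) from m)]
      exact zero_mem _
    | add b c _ _ hb hc =>
      intro a
      rw [mul_add, show secMul (F := F) hle (a * b + a * c) = secMul hle (a * b) + secMul hle (a * c) from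
        LinearMap.ext fun m => add_smul (a * b) (a * c) (show Γ(F, U) from m)]
      exact add_mem (hb a) (hc a)
    | smul c b _ hb =>
      intro a
      rw [smul_eq_mul, ← mul_assoc]
      exact hb _
  rw [show u • (LinearMap.id : Module.End Γ(S, V) (Sec f F V hle)) =
    secMul (F := F) hle (algebraMap Γ(S, V) Γ(X, U) u) from LinearMap.ext fun m => rfl]
  exact this _ humem

/-- The equalizer sequence of a finite affine covering of `f ⁻¹ V`. -/
theorem exists_sequence [QuasiCompact f] [QuasiSeparated f] (hV : IsAffineOpen V) :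
    ∃ (J K : Type u) (_ : Finite J) (_ : Finite K) (UJ : J → X.Opens) (UK : K → X.Opens)
      (hJ : ∀ j, UJ j ≤ f ⁻¹ᵁ V) (hK : ∀ k, UK k ≤ f ⁻¹ᵁ V),
      (∀ j, IsAffineOpen (UJ j)) ∧ (∀ k, IsAffineOpen (UK k)) ∧
      ∃ (ι : Sec f F V (le_refl (f ⁻¹ᵁ V)) →ₗ[Γ(S, V)] ∀ j, Sec f F V (hJ j))
        (δ : (∀ j, Sec f F V (hJ j)) →ₗ[Γ(S, V)] ∀ k, Sec f F V (hK k)),
        Function.Injective ι ∧ Function.Exact ι δ := by
  classical
  have hW : IsCompact ((f ⁻¹ᵁ V : X.Opens) : Set X) := f.isCompact_preimage hV.isCompact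
  have hW₂ : IsQuasiSeparated ((f ⁻¹ᵁ V : X.Opens) : Set X) :=
    f.isQuasiSeparated_preimage hV.isQuasiSeparated
  obtain ⟨A, hA, hAW⟩ := isCompact_iff_finite_and_eq_biUnion_affineOpens.mp hW
  have := hA.to_subtype
  have hJ : ∀ j : A, (j.1.1 : X.Opens) ≤ f ⁻¹ᵁ V := fun j => by
    rw [hAW]; exact le_iSup₂ (f := fun (i : X.affineOpens) (_ : i ∈ A) => (i : X.Opens)) j.1 j.2
  have hcov : f ⁻¹ᵁ V ≤ iSup fun j : A => (j.1.1 : X.Opens) := by
    intro x hx
    rw [hAW] at hx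
    obtain ⟨i, hx⟩ := Opens.mem_iSup.1 hx
    obtain ⟨hi, hx⟩ := Opens.mem_iSup.1 hx
    exact Opens.mem_iSup.2 ⟨⟨i, hi⟩, hx⟩
  have hB : ∀ p : A × A, ∃ B : Set X.affineOpens, B.Finite ∧
      (p.1.1.1 ⊓ p.2.1.1 : X.Opens) = ⨆ i ∈ B, (i : X.Opens) := fun p =>
    isCompact_iff_finite_and_eq_biUnion_affineOpens.mp
      (hW₂ p.1.1.1 p.2.1.1 (hJ p.1) p.1.1.1.2 p.1.1.2.isCompact (hJ p.2) p.2.1.1.2 p.2.1.2.isCompact)
  choose B hBf hBeq using hB
  have := fun p => (hBf p).to_subtype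
  let K := Σ p : A × A, B p
  have hK₁ : ∀ k : K, (k.2.1.1 : X.Opens) ≤ k.1.1.1.1 := fun k =>
    le_trans (le_trans (le_iSup₂ (f := fun (i : X.affineOpens) (_ : i ∈ B k.1) => (i : X.Opens)) k.2.1 k.2.2)
      (hBeq k.1).ge) inf_le_left
  have hK₂ : ∀ k : K, (k.2.1.1 : X.Opens) ≤ k.1.2.1.1 := fun k =>
    le_trans (le_trans (le_iSup₂ (f := fun (i : X.affineOpens) (_ : i ∈ B k.1) => (i : X.Opens)) k.2.1 k.2.2)
      (hBeq k.1).ge) inf_le_right
  have hK : ∀ k : K, (k.2.1.1 : X.Opens) ≤ f ⁻¹ᵁ V := fun k => (hK₁ k).trans (hJ _)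
  let ι : Sec f F V (le_refl (f ⁻¹ᵁ V)) →ₗ[Γ(S, V)] ∀ j : A, Sec f F V (hJ j) :=
    LinearMap.pi fun j => secRes (hle' := hJ j) le_rfl (hJ j)
  let δ : (∀ j : A, Sec f F V (hJ j)) →ₗ[Γ(S, V)] ∀ k : K, Sec f F V (hK k) :=
    LinearMap.pi fun k => secRes (hle' := hK k) (hJ k.1.1) (hK₁ k) ∘ₗ LinearMap.proj k.1.1 -
      secRes (hle' := hK k) (hJ k.1.2) (hK₂ k) ∘ₗ LinearMap.proj k.1.2
  refine ⟨A, K, inferInstance, inferInstance, fun j => j.1.1, fun k => k.2.1.1, hJ, hK,
    fun j => j.1.2, fun k => k.2.1.2, ι, δ, ?_, ?_⟩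
  · rw [injective_iff_map_eq_zero]
    intro m hm
    refine QCoh.eq_zero_of_locally (M := F) (f ⁻¹ᵁ V) m fun p hp => ?_
    obtain ⟨j, hj⟩ := Opens.mem_iSup.1 (hcov hp)
    exact ⟨_, homOfLE (hJ j), hj, congrFun hm j⟩
  · intro c
    constructor
    · intro hc
      have hcompat : TopCat.Presheaf.IsCompatible F.presheaf (fun j : A => (j.1.1 : X.Opens))
          (fun j => (c j : Γ(F, j.1.1))) := by
        intro i j
        rw [← sub_eq_zero]
        refine QCoh.eq_zero_of_locally (M := F) _ _ fun p hp => ?_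
        have hp' : p ∈ (i.1.1 ⊓ j.1.1 : X.Opens) := hp
        rw [hBeq (i, j)] at hp'
        obtain ⟨b, hpb⟩ := Opens.mem_iSup.1 hp'
        obtain ⟨hb, hpb⟩ := Opens.mem_iSup.1 hpb
        let k : K := ⟨(i, j), ⟨b, hb⟩⟩
        refine ⟨b.1, homOfLE (le_inf (hK₁ k) (hK₂ k)), hpb, ?_⟩
        rw [map_sub, QCoh.map_map, QCoh.map_map,
          Subsingleton.elim (homOfLE (le_inf (hK₁ k) (hK₂ k)) ≫ Opens.infLELeft _ _) (homOfLE (hK₁ k)),
          Subsingleton.elim (homOfLE (le_inf (hK₁ k) (hK₂ k)) ≫ Opens.infLERight _ _) (homOfLE (hK₂ k))]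
        exact congrFun hc k
      obtain ⟨T, hT, -⟩ := TopCat.Sheaf.existsUnique_gluing' ⟨F.presheaf, F.isSheaf⟩
        (fun j : A => (j.1.1 : X.Opens)) (f ⁻¹ᵁ V) (fun j => homOfLE (hJ j)) hcov _ hcompat
      exact ⟨T, funext hT⟩
    · rintro ⟨m, rfl⟩
      funext k
      show F.presheaf.map (homOfLE (hK₁ k)).op (F.presheaf.map (homOfLE (hJ k.1.1)).op m) -
        F.presheaf.map (homOfLE (hK₂ k)).op (F.presheaf.map (homOfLE (hJ k.1.2)).op m) = 0
      rw [QCoh.map_map, QCoh.map_map, sub_eq_zero]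
      rfl

end Groth.Agent.Div86.PushDepth
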